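import Groth.Agent.Lib.ThetaLift14.Unique
import Groth.Agent.Lib.AbRigid.Epi

set_option autoImplicit false
set_option backward.isDefEq.respectTransparency false
set_option backward.isDefEq.respectTransparency.types false

universe u

open CategoryTheory CategoryTheory.Limits MonoidalCategory CartesianMonoidalCategory MonObj AlgebraicGeometry Opposite
open scoped TensorProduct Polynomial

namespace Groth.Agent.LineDense28

open ThetaS

variable (R : Type u) [CommRing R]

noncomputable local instance braidedAlgSpecOf28 : (algSpec (CommRingCat.of R)).Braided := braidedAlgSpec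

local notation "SS" => Spec (CommRingCat.of R)

noncomputable abbrev jG : Gm R ⟶ Line R := CoactBr.pt (linePt (zPow R 1))

theorem map_linePt_injective (B : Type u) [CommRing B] [Algebra R B] :
    Function.Injective (Algebra.TensorProduct.map (linePt (zPow R 1) : R[X] →ₐ[R] Lau R) (AlgHom.id R B)) := by
  let f := (linePt (zPow R 1) : R[X] →ₐ[R] Lau R)
  let s : Lau R →ₗ[R] R[X] :=
    (Finsupp.linearCombination R fun n : Multiplicative ℤ =>
      if 0 ≤ n.toAdd then (Polynomial.X : R[X]) ^ n.toAdd.toNat else 0) ∘ₗ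
      (MonoidAlgebra.coeffLinearEquiv R).toLinearMap
  have hs : s ∘ₗ f.toLinearMap = LinearMap.id := by
    refine Polynomial.lhom_ext' fun n => LinearMap.ext_ring ?_
    simp [s, f, linePt, Polynomial.aeval_monomial, MonoidAlgebra.single_pow, ← ofAdd_nsmul,
      ← Polynomial.monomial_one_right_eq_X_pow]
  intro x y h
  have key : ∀ z, s.rTensor B (Algebra.TensorProduct.map f (AlgHom.id R B) z) = z := by
    intro z
    induction z using TensorProduct.induction_on with
    | zero => simp
    | tmul a b =>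
      simp only [Algebra.TensorProduct.map_tmul, AlgHom.id_apply, LinearMap.rTensor_tmul]
      exact congrArg (· ⊗ₜ[R] b) (LinearMap.congr_fun hs a)
    | add a b ha hb => rw [map_add, map_add, ha, hb]
  rw [← key x, ← key y, h]

theorem ker_Spec_map_eq_bot {A B : CommRingCat.{u}} (φ : A ⟶ B) (h : Function.Injective φ.hom) :
    (Spec.map φ).ker = ⊥ := by
  refine Scheme.IdealSheafData.ext_of_isAffine ?_
  rw [Scheme.Hom.ker_apply, Scheme.IdealSheafData.ideal_bot]
  refine (RingHom.injective_iff_ker_eq_bot _).1 fun x y hxy => ?_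
  apply ((ConcreteCategory.isIso_iff_bijective (Scheme.ΓSpecIso A).hom).1 inferInstance).1
  apply h
  have hn := fun z => ConcreteCategory.congr_hom (Scheme.ΓSpecIso_naturality φ) z
  exact (hn x).symm.trans ((congrArg (Scheme.ΓSpecIso B).hom hxy).trans (hn y))

theorem eq_of_jG_sp (B : Type u) [CommRing B] [Algebra R B] {X : Over SS} [IsSeparated X.hom]
    (f g : Line R ⊗ CoactBr.sp R B ⟶ X)
    (h : (jG R ▷ CoactBr.sp R B) ≫ f = (jG R ▷ CoactBr.sp R B) ≫ g) : f = g := by
  let e := Functor.Monoidal.μIso (algSpec (CommRingCat.of R)) (op (CommAlgCat.of R R[X])) (op (CommAlgCat.of R B))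
  let e' := Functor.Monoidal.μIso (algSpec (CommRingCat.of R)) (op (CommAlgCat.of R (Lau R))) (op (CommAlgCat.of R B))
  let φ := Algebra.TensorProduct.map (linePt (zPow R 1) : R[X] →ₐ[R] Lau R) (AlgHom.id R B)
  have hnat : (jG R ▷ CoactBr.sp R B) ≫ e.hom = e'.hom ≫ CoactBr.pt φ :=
    Functor.LaxMonoidal.μ_natural_left (algSpec (CommRingCat.of R))
      (CommAlgCat.ofHom (linePt (zPow R 1) : R[X] →ₐ[R] Lau R)).op (op (CommAlgCat.of R B))
  rw [← cancel_epi e.inv]
  refine Over.OverMorphism.ext (Groth.Agent.AbRigid.eq_of_comp_eq_of_ker_eq_bot (CoactBr.pt φ).left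
    (ker_Spec_map_eq_bot _ (map_linePt_injective R B)) X.hom _ _ ((Over.w (e.inv ≫ f)).trans (Over.w (e.inv ≫ g)).symm) ?_)
  refine congrArg CommaMorphism.left (?_ : CoactBr.pt φ ≫ e.inv ≫ f = CoactBr.pt φ ≫ e.inv ≫ g)
  rw [← cancel_epi e'.hom, ← reassoc_of% hnat, ← reassoc_of% hnat, e.hom_inv_id_assoc, e.hom_inv_id_assoc, h]

/-- `G_m × T ⟶ 𝔸¹ × T` is an epimorphism against separated targets. -/
theorem eq_of_jG {T X : Over SS} [IsSeparated X.hom] (f g : Line R ⊗ T ⟶ X)
    (h : (jG R ▷ T) ≫ f = (jG R ▷ T) ≫ g) : f = g := by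
  refine Over.OverMorphism.ext
    (Scheme.Cover.hom_ext (Scheme.Pullback.openCoverOfRight T.left.affineCover (Line R).hom T.hom) _ _ fun i => ?_)
  let B := T.left.affineOpenCover.X i
  let y₀ : Spec B ⟶ T.left := T.left.affineOpenCover.f i
  letI : Algebra R B := (Spec.preimage (y₀ ≫ T.hom)).hom.toAlgebra
  let T' : Over SS := Over.mk (y₀ ≫ T.hom)
  let y : T' ⟶ T := Over.homMk y₀ rfl
  let w : CoactBr.sp R B ≅ T' := Over.isoMk (Iso.refl _) (by
    rw [Iso.refl_hom, Category.id_comp]; exact (Spec.map_preimage (y₀ ≫ T.hom)).symm)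
  have hy := eq_of_jG_sp R B ((Line R ◁ w.hom) ≫ (Line R ◁ y) ≫ f) ((Line R ◁ w.hom) ≫ (Line R ◁ y) ≫ g) (by
    rw [← whisker_exchange_assoc, ← whisker_exchange_assoc, ← whisker_exchange_assoc, ← whisker_exchange_assoc, h])
  rw [cancel_epi] at hy
  have e : (Scheme.Pullback.openCoverOfRight T.left.affineCover (Line R).hom T.hom).f i = (Line R ◁ y).left := by
    refine pullback.hom_ext ?_ ?_
    · simp [y, y₀]
      rfl
    · simp [y, y₀]
      rfl
  rw [e]
  exact congrArg CommaMorphism.left hy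

theorem jG_act : (Gm R ◁ jG R) ≫ (lineAction R).act = μ[Gm R] ≫ jG R := by
  let l : Lau R →ₐ[R] Lau R ⊗[R] Lau R := Algebra.TensorProduct.includeLeft
  let r : Lau R →ₐ[R] Lau R ⊗[R] Lau R := Algebra.TensorProduct.includeRight
  let e : CoactBr.sp R (Lau R ⊗[R] Lau R) ⟶ Gm R ⊗ Gm R := lift (CoactBr.pt l) (CoactBr.pt r)
  haveI : IsIso e := by
    have h1 := CoactBr.lift_pt_pt l r
    have h2 : Algebra.TensorProduct.lift l r (fun _ _ => .all _ _) = AlgHom.id R _ :=
      Algebra.TensorProduct.ext' fun x y => by simp [l, r]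
    rw [h2, CoactBr.pt_id] at h1
    haveI : IsIso (e ≫ Functor.LaxMonoidal.μ (algSpec (CommRingCat.of R)) (op (.of R (Lau R))) (op (.of R (Lau R)))) := by
      rw [show e ≫ _ = _ from h1]; infer_instance
    exact IsIso.of_isIso_comp_right e (Functor.LaxMonoidal.μ (algSpec (CommRingCat.of R)) (op (.of R (Lau R))) (op (.of R (Lau R))))
  rw [← cancel_epi e]
  calc e ≫ (Gm R ◁ jG R) ≫ (lineAction R).act
      = lift (CoactBr.pt l) (CoactBr.pt (r.comp (linePt (zPow R 1)))) ≫ (lineAction R).act := by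
        rw [lift_whiskerLeft_assoc, CoactBr.pt_comp]
    _ = lift (CoactBr.pt l) (CoactBr.pt (linePt (r (zPow R 1)))) ≫ (lineAction R).act := by
        rw [show r.comp (linePt (zPow R 1)) = linePt (r (zPow R 1)) from Polynomial.algHom_ext (by simp [linePt])]
    _ = CoactBr.pt (linePt (l (zPow R 1) * r (zPow R 1))) := lineAction_pt l _
    _ = (CoactBr.pt l * CoactBr.pt r) ≫ jG R := by
        rw [CoactBr.pt_mul_pt, ← CoactBr.pt_comp]
        refine congrArg CoactBr.pt (Polynomial.algHom_ext ?_)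
        simp [linePt]
    _ = e ≫ μ[Gm R] ≫ jG R := by rw [Hom.mul_def, Category.assoc]

end Groth.Agent.LineDense28
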